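import Groth.Agent.CICoh.Vanish
import Groth.Agent.H23.GeomConnGamma
import Groth.Agent.SurfStab.GenPart
import Groth.Agent.PnCoh.Global
import Groth.Agent.PnCoh.Chow.Proper
import Groth.Agent.InvX.Tensor

/-!
# Global functions on a complete intersection
-/

set_option autoImplicit false
set_option linter.style.haveILetI false
set_option linter.unusedSectionVars false
set_option backward.isDefEq.respectTransparency false
set_option backward.isDefEq.respectTransparency.types false
set_option maxHeartbeats 1000000
set_option synthInstance.maxHeartbeats 400000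

universe u

open CategoryTheory CategoryTheory.Limits AlgebraicGeometry TopologicalSpace Opposite
open Groth.Agent.H23.PicMul

noncomputable section

namespace Groth.Agent.CICoh

open Groth.Agent

/-- If global sections of a trivial invertible module extend, so do global functions. -/
theorem appTop_surjective_of_unit {X T : Scheme.{u}} (f : X ⟶ T) [IsClosedImmersion f] {L : T.Modules}
    (e : Coh.structureModule T ≅ L)
    (h : Function.Surjective (((Scheme.Modules.pullbackPushforwardAdjunction f).unit.app L).app ⊤)) :
    Function.Surjective f.appTop := by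
  let adj := Scheme.Modules.pullbackPushforwardAdjunction f
  haveI := SurfStab.epi_unitToPush f
  have hO : PicF.IsInvertible (Coh.structureModule T) := InvX.isInvertible_structureModule
  obtain ⟨v, hv⟩ := adjunct_isIso_and_surjective f hO InvX.isInvertible_structureModule (ClSub.unitToPush f)
  let m : (Scheme.Modules.pushforward f).obj ((Scheme.Modules.pullback f).obj (Coh.structureModule T)) ≅
      (Scheme.Modules.pushforward f).obj ((Scheme.Modules.pullback f).obj L) :=
    (Scheme.Modules.pushforward f).mapIso ((Scheme.Modules.pullback f).mapIso e)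
  have hn : e.hom ≫ adj.unit.app L = adj.unit.app _ ≫ m.hom := adj.unit.naturality e.hom
  have h1 : Function.Surjective ((adj.unit.app (Coh.structureModule T)).app ⊤) := by
    refine app_top_surjective_of_fac (e.hom ≫ adj.unit.app L) (Iso.refl _) _ m.hom ?_ ?_
    · rw [hn]; exact Category.comp_id _
    · exact h.comp (ConcreteCategory.bijective_of_isIso (e.hom.app ⊤)).2
  have h2 : Function.Surjective ((ClSub.unitToPush f).app ⊤) := by
    rw [hv]
    exact (ConcreteCategory.bijective_of_isIso (((Scheme.Modules.pushforward f).map v.hom).app ⊤)).2.comp h1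
  exact h2

/-- A ring map out of the global functions of the spectrum of a field is injective. -/
theorem appTop_injective_of_field {k : Type u} [Field k] {X : Scheme.{u}} [Nonempty X]
    (v : X ⟶ Spec (CommRingCat.of k)) : Function.Injective v.appTop := by
  haveI : Nonempty (⊤ : X.Opens) := ⟨⟨Classical.arbitrary X, trivial⟩⟩
  intro x y h
  obtain ⟨x, rfl⟩ := (ConcreteCategory.bijective_of_isIso (Scheme.ΓSpecIso (CommRingCat.of k)).inv).2 x
  obtain ⟨y, rfl⟩ := (ConcreteCategory.bijective_of_isIso (Scheme.ΓSpecIso (CommRingCat.of k)).inv).2 y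
  exact congrArg _ (RingHom.injective
    (((Scheme.ΓSpecIso (CommRingCat.of k)).inv ≫ v.appTop).hom : k →+* Γ(X, ⊤)) h)

variable {n : ℕ} {k : Type u} [Field k]

theorem nonempty_of_dim {X : Scheme.{u}} {d : ℕ} (h : topologicalKrullDim ↥X = ((d : ℕ) : WithBot ℕ∞)) :
    Nonempty X := by
  by_contra hX
  rw [not_nonempty_iff] at hX
  haveI : IsEmpty (IrreducibleCloseds X) := ⟨fun Z => isEmptyElim Z.isIrreducible'.nonempty.some⟩
  exact WithBot.bot_ne_coe ((Order.krullDim_eq_bot (α := IrreducibleCloseds X)).symm.trans h)

theorem geometricallyConnected_ci {r : ℕ} {a : Fin r → ℕ} (G : ∀ j, LefPen.Form n k (a j))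
    (hG : WCI.RegSeq fun j => (G j).1) (hrn : r < n) [Nonempty (LefPen.ciIdeal G).subscheme] :
    GeometricallyConnected ((LefPen.ciIdeal G).subschemeι ≫ CohB1.ProjSpace.toSpec n k) := by
  obtain ⟨e⟩ := HypCurve.nonempty_twist_zero_iso (r := n) (k := k)
  haveI : IsProper (CohB1.ProjSpace.toSpec n k) := PnCoh.Chow.isProper_toSpec n k
  refine H23.GeomConnGamma.geometricallyConnected_of_gamma _ ⟨appTop_injective_of_field _, ?_⟩
  rw [Scheme.Hom.comp_appTop]
  exact (appTop_surjective_of_unit _ e (unit_top_surjective G hG hrn 0)).comp
    (PnCoh.bijective_toSpecR_appTop (ι := Fin (n + 1)) (R := k)).2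

end Groth.Agent.CICoh
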