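import Groth.Agent.CICoh.Vanish
import Groth.Agent.Big.Cartier
import Groth.Agent.AlgSpLib.CartierDim
import Groth.Agent.Snapper.DimVanish
import Groth.Agent.CurveCohLib.Euler
import Groth.Agent.CurveCohLib.Rank
import Groth.Agent.ComodLib.GradedAug
import Groth.Agent.H23.PnChart
import Groth.Agent.ProjUPX.Affine
import Groth.Agent.S10829
import Groth.Agent.S11325
import Groth.Agent.S0843
import Groth.Agent.S0844
import Groth.Agent.S0845

/-!
# Cohomology of twists on a hypersurface of projective space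
-/

set_option autoImplicit false
set_option linter.style.haveILetI false
set_option linter.unusedSectionVars false
set_option backward.isDefEq.respectTransparency false
set_option backward.isDefEq.respectTransparency.types false
set_option maxHeartbeats 1000000
set_option synthInstance.maxHeartbeats 400000

universe u

open CategoryTheory CategoryTheory.Limits AlgebraicGeometry TopologicalSpace Opposite
open Groth.Agent.H23.PicMul

noncomputable section

namespace Groth.Agent.CICoh

open Groth.Agent Groth.Agent.CurveCohLib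
open Groth.Agent.PnCoh.Finite (mapLin deltaLin exists_of_deltaLin_eq_zero)

variable {n : ℕ} {k : Type u} [Field k]

local notation "ℙn" => CohB1.ProjSpace n k

theorem finrank_twist_zero (hn : 1 ≤ n) (m : ℤ) :
    Module.Finite k (Coh.HH ℙn (Twist.twistProjSpace n k m) 0) ∧
      Module.finrank k (Coh.HH ℙn (Twist.twistProjSpace n k m) 0) = (m + n).toNat.choose n := by
  rcases le_or_gt 0 m with hm | hm
  · lift m to ℕ using hm
    obtain ⟨φ⟩ := S0843.result k n m
    have h := ComodLib.GradedAug.finrank_homogeneous (k := k) (n + 1) m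
    haveI := h.1
    refine ⟨Module.Finite.equiv φ.symm, φ.finrank_eq.trans (h.2.trans ?_)⟩
    rw [show n + 1 + m - 1 = n + m by omega, show ((m : ℤ) + (n : ℤ)).toNat = n + m by omega]
    exact Nat.choose_symm_add.symm
  · haveI : Subsingleton (Coh.HH ℙn (Twist.twistProjSpace n k m) 0) :=
      S0844.result k n m 0 (fun h => by have := h.2; omega) fun h => by have := h.1; omega
    refine ⟨inferInstance, ?_⟩
    rw [Module.finrank_zero_of_subsingleton, Nat.choose_eq_zero_of_lt (by omega)]

theorem finrank_twist_top (hn : 1 ≤ n) (m : ℤ) :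
    Module.Finite k (Coh.HH ℙn (Twist.twistProjSpace n k m) n) ∧
      Module.finrank k (Coh.HH ℙn (Twist.twistProjSpace n k m) n) = (-m - 1).toNat.choose n := by
  rcases le_or_gt m (-((n : ℤ) + 1)) with hm | hm
  · obtain ⟨j, rfl⟩ : ∃ j : ℕ, m = -((n : ℤ) + 1 + j) := ⟨(-m - n - 1).toNat, by omega⟩
    obtain ⟨φ⟩ := S0845.result k n j
    have h := ComodLib.GradedAug.finrank_homogeneous (k := k) (n + 1) j
    haveI := h.1
    refine ⟨Module.Finite.equiv φ.symm, φ.finrank_eq.trans (h.2.trans ?_)⟩
    rw [show n + 1 + j - 1 = n + j by omega, show (- -((n : ℤ) + 1 + j) - 1).toNat = n + j by omega]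
    exact Nat.choose_symm_add.symm
  · haveI : Subsingleton (Coh.HH ℙn (Twist.twistProjSpace n k m) n) :=
      S0844.result k n m n (fun h => by have := h.1; omega) fun h => by have := h.2; omega
    refine ⟨inferInstance, ?_⟩
    rw [Module.finrank_zero_of_subsingleton, Nat.choose_eq_zero_of_lt (by omega)]

/-- An ideal sheaf isomorphic to a twist is not zero. -/
theorem ne_bot_of_idealMod_twist {I : (CohB1.ProjSpace n k).IdealSheafData} {m : ℤ}
    (hI : Nonempty (ClSub.idealMod I ≅ Twist.twistProjSpace n k m)) : I ≠ ⊥ := by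
  rintro rfl
  obtain ⟨e⟩ := hI
  haveI : IsIso (ClSub.toSubscheme (⊥ : (CohB1.ProjSpace n k).IdealSheafData)) :=
    Scheme.Modules.Hom.isIso_iff_isIso_app.mpr fun U => (ConcreteCategory.isIso_iff_bijective _).2
      (ConcreteCategory.bijective_of_isIso
        ((⊥ : (CohB1.ProjSpace n k).IdealSheafData).subschemeι.app U))
  haveI : Mono (ClSub.idealModι (⊥ : (CohB1.ProjSpace n k).IdealSheafData)) := inferInstanceAs (Mono (kernel.ι _))
  have hz : IsZero (Twist.twistProjSpace n k m) := by
    refine IsZero.of_iso ?_ e.symm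
    exact (IsZero.iff_id_eq_zero _).2 ((cancel_mono (ClSub.idealModι (⊥ : (CohB1.ProjSpace n k).IdealSheafData))).1
      (((cancel_mono (ClSub.toSubscheme (⊥ : (CohB1.ProjSpace n k).IdealSheafData))).1
        ((by simp only [Category.id_comp, zero_comp]; exact kernel.condition _) :
          (𝟙 _ ≫ ClSub.idealModι _) ≫ ClSub.toSubscheme _ = (0 ≫ ClSub.idealModι _) ≫ ClSub.toSubscheme _))))
  haveI := H23.PnChart.isIntegral_projSpace n k
  obtain ⟨i, hi⟩ := Opens.mem_iSup.1 ((HypCurve.iSup_chart n k).ge (show genericPoint ℙn ∈ (⊤ : (CohB1.ProjSpace n k).Opens) from trivial))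
  haveI : Nonempty (LefPen.chart n k i) := ⟨⟨_, hi⟩⟩
  have hsub : ∀ s t : Γ(Twist.twistProjSpace n k m, LefPen.chart n k i), s = t := fun s t => by
    have hid := congr(($((IsZero.iff_id_eq_zero _).1 hz)).app (LefPen.chart n k i))
    exact (congr($hid s)).trans (congr($hid t)).symm
  exact one_ne_zero ((isFrame_twFrame (k := k) m i _ le_rfl).1 (hsub _ _))

/-- A closed subscheme of projective space with non-zero ideal has smaller dimension. -/
theorem dim_subscheme_lt {I : (CohB1.ProjSpace n k).IdealSheafData} (hI : I ≠ ⊥) :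
    topologicalKrullDim ↥(I.support : Set ℙn) < (n : WithBot ℕ∞) := by
  haveI := H23.PnChart.isIntegral_projSpace n k
  have hd := S10829.result k n
  refine lt_of_lt_of_le (AlgSpLib.CartierDim.topologicalKrullDim_lt I.support.isClosed (fun z _ => ?_) ?_) hd.le
  · refine ⟨genericPoint ℙn, fun hg => hI ?_, genericPoint_specializes z⟩
    haveI : Surjective I.subschemeι := ⟨fun x => by
      have : (I.support : Set ℙn) = Set.univ := Set.eq_univ_of_univ_subset
        ((genericPoint_spec ℙn).symm.le.trans (closure_minimal (Set.singleton_subset_iff.2 hg) I.support.isClosed))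
      have hx : x ∈ Set.range I.subschemeι := by
        rw [Scheme.IdealSheafData.range_subschemeι, this]; trivial
      exact hx⟩
    haveI : IsIso I.subschemeι := isIso_of_isClosedImmersion_of_surjective I.subschemeι
    rw [← I.ker_subschemeι, Scheme.Hom.ker_eq_bot_of_isIso]
  · rw [hd]; exact WithBot.coe_inj.not.2 (ENat.coe_ne_top n)

/-- The twisted sequence of a hypersurface. -/
theorem exists_hyp_seq (I : (CohB1.ProjSpace n k).IdealSheafData) {d : ℤ}
    (hI : Nonempty (ClSub.idealMod I ≅ Twist.twistProjSpace n k d)) (m : ℤ) :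
    ∃ S : ShortComplex (CohB1.ProjSpace n k).Modules, S.ShortExact ∧
      Nonempty (S.X₁ ≅ Twist.twistProjSpace n k (d + m)) ∧
      Nonempty (S.X₂ ≅ Twist.twistProjSpace n k m) ∧ Nonempty (S.X₃ ≅ K I m) := by
  have hT := Big.shortExact_tw (Big.shortExact_ideal I) (HypCurve.isInvertible_twist (k := k) n m)
  refine ⟨_, hT, ?_, ?_, ⟨Iso.refl _⟩⟩
  · refine cl_eq_iff.1 ?_
    change PicF.cl (CohB1.tensorMod (ClSub.idealMod I) (Twist.twistProjSpace n k m)) = _
    rw [cl_tensor, cl_eq_iff.2 hI, cl_twist_add]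
  · refine cl_eq_iff.1 ?_
    change PicF.cl (CohB1.tensorMod (Coh.structureModule ℙn) (Twist.twistProjSpace n k m)) = _
    rw [cl_tensor, ← one_def, one_mul]

/-- No cohomology above the dimension of the hypersurface. -/
theorem subsingleton_HH_K {d : ℕ} {I : (CohB1.ProjSpace (d + 1) k).IdealSheafData} (hI : I ≠ ⊥) (m : ℤ) {p : ℕ}
    (hp : d < p) : Subsingleton (Coh.HH (CohB1.ProjSpace (d + 1) k) (K I m) p) := by
  obtain ⟨e⟩ := nonempty_push_pull I.subschemeι m
  rw [Scheme.IdealSheafData.ker_subschemeι] at e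
  have hq : Coh.IsQCoh ((Scheme.Modules.pullback I.subschemeι).obj (Twist.twistProjSpace (d + 1) k m)) :=
    ProjUPX.isQCoh_of_isInvertible (PicClLib.isInvertible_pullback _ (HypCurve.isInvertible_twist (k := k) (d + 1) m))
  obtain ⟨φ⟩ := QCoh.HH_push_of_isAffineHom I.subschemeι hq p
  have hdim : topologicalKrullDim I.subscheme ≤ (d : WithBot ℕ∞) := by
    have h := dim_subscheme_lt hI
    rw [← Scheme.IdealSheafData.range_subschemeι,
      ← IsHomeomorph.topologicalKrullDim_eq _ I.subschemeι.isClosedEmbedding.toIsEmbedding.toHomeomorph.isHomeomorph] at h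
    rw [Nat.cast_add, Nat.cast_one] at h
    exact ENat.WithBot.lt_add_one_iff.1 h
  haveI : IsNoetherian (CohB1.ProjSpace (d + 1) k) := PnVan.noethP (k := k) (r := d + 1)
  haveI := LocallyOfFiniteType.isLocallyNoetherian I.subschemeι
  haveI : CompactSpace I.subscheme := QuasiCompact.compactSpace_of_compactSpace I.subschemeι
  haveI : IsNoetherian I.subscheme := {}
  haveI : (CohB1.ProjSpace (d + 1) k).IsSeparated := inferInstanceAs (Proj _).IsSeparated
  haveI : I.subscheme.IsSeparated := ⟨by rw [← terminal.comp_from I.subschemeι]; infer_instance⟩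
  haveI := Snapper.subsingleton_HH_of_dim_le hdim hq hp
  exact QCoh.subsingleton_HH_of_iso e p φ.symm.toEquiv.subsingleton

section Five

variable {A B C D E : Type*} [AddCommGroup A] [AddCommGroup B] [AddCommGroup C] [AddCommGroup D] [AddCommGroup E]
  [Module k A] [Module k B] [Module k C] [Module k D] [Module k E]

theorem finrank_five [Module.Finite k A] [Module.Finite k B] [Module.Finite k D] [Module.Finite k E]
    {f : A →ₗ[k] B} {g : B →ₗ[k] C} {δ : C →ₗ[k] D} {h : D →ₗ[k] E} (hf : Function.Injective f)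
    (hg : LinearMap.ker g = LinearMap.range f) (hδ : LinearMap.ker δ = LinearMap.range g)
    (hh : LinearMap.ker h = LinearMap.range δ) (hs : Function.Surjective h) :
    Module.Finite k C ∧ Module.finrank k C =
      (Module.finrank k B - Module.finrank k A) + (Module.finrank k D - Module.finrank k E) := by
  haveI : Module.Finite k (LinearMap.range g) := Module.Finite.range g
  haveI : Module.Finite k (LinearMap.range δ) := inferInstance
  haveI hfin : Module.Finite k C := by
    haveI : Module.Finite k (LinearMap.ker δ) := hδ ▸ inferInstance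
    haveI : Module.Finite k (C ⧸ LinearMap.ker δ) := Module.Finite.equiv δ.quotKerEquivRange.symm
    exact Module.Finite.of_submodule_quotient (LinearMap.ker δ)
  refine ⟨hfin, ?_⟩
  have h1 := LinearMap.finrank_range_add_finrank_ker g
  have h2 := LinearMap.finrank_range_add_finrank_ker δ
  have h3 := LinearMap.finrank_range_add_finrank_ker h
  rw [hg, LinearMap.finrank_range_of_inj hf] at h1
  rw [hδ] at h2
  rw [hh, LinearMap.range_eq_top.2 hs, finrank_top] at h3
  omega

end Five

/-- Cohomology of the twists of a hypersurface in the two interesting degrees and their vanishing elsewhere. -/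
theorem hyp_finrank {d : ℕ} {I : (CohB1.ProjSpace (d + 1) k).IdealSheafData} {c : ℤ}
    (hI : Nonempty (ClSub.idealMod I ≅ Twist.twistProjSpace (d + 1) k c)) (m : ℤ) :
    (∀ p : ℕ, p ≠ 0 → p ≠ d → Subsingleton (Coh.HH (CohB1.ProjSpace (d + 1) k) (K I m) p)) ∧
    (Module.Finite k (Coh.HH (CohB1.ProjSpace (d + 1) k) (K I m) 0) ∧
      Module.finrank k (Coh.HH (CohB1.ProjSpace (d + 1) k) (K I m) 0) =
        ((m + (d + 1 : ℕ)).toNat.choose (d + 1) - (c + m + (d + 1 : ℕ)).toNat.choose (d + 1)) +
          (if d = 0 then (-(c + m) - 1).toNat.choose (d + 1) - (-m - 1).toNat.choose (d + 1) else 0)) ∧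
    (1 ≤ d → Module.Finite k (Coh.HH (CohB1.ProjSpace (d + 1) k) (K I m) d) ∧
      Module.finrank k (Coh.HH (CohB1.ProjSpace (d + 1) k) (K I m) d) =
        (-(c + m) - 1).toNat.choose (d + 1) - (-m - 1).toNat.choose (d + 1)) := by
  obtain ⟨S, hS, ⟨e1⟩, ⟨e2⟩, ⟨e3⟩⟩ := exists_hyp_seq I hI m
  have hne := ne_bot_of_idealMod_twist hI
  have v1 : ∀ p, p ≠ 0 → p ≠ d + 1 → Subsingleton (Coh.HH (CohB1.ProjSpace (d + 1) k) S.X₁ p) := fun p h0 h1 =>
    QCoh.subsingleton_HH_of_iso e1.symm p
      (S0844.result k (d + 1) (c + m) p (fun h => h0 h.1) fun h => h1 h.1)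
  have v2 : ∀ p, p ≠ 0 → p ≠ d + 1 → Subsingleton (Coh.HH (CohB1.ProjSpace (d + 1) k) S.X₂ p) := fun p h0 h1 =>
    QCoh.subsingleton_HH_of_iso e2.symm p
      (S0844.result k (d + 1) m p (fun h => h0 h.1) fun h => h1 h.1)
  have v3 : ∀ p, d < p → Subsingleton (Coh.HH (CohB1.ProjSpace (d + 1) k) S.X₃ p) := fun p hp =>
    QCoh.subsingleton_HH_of_iso e3.symm p (subsingleton_HH_K hne m hp)
  have E1 := fun p => hhEquiv (k := k) e1 p
  have E2 := fun p => hhEquiv (k := k) e2 p
  have E3 := fun p => hhEquiv (k := k) e3 p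
  obtain ⟨a0, a0'⟩ := finrank_twist_zero (k := k) (Nat.le_add_left 1 d) (c + m)
  obtain ⟨b0, b0'⟩ := finrank_twist_zero (k := k) (Nat.le_add_left 1 d) m
  obtain ⟨a1, a1'⟩ := finrank_twist_top (k := k) (Nat.le_add_left 1 d) (c + m)
  obtain ⟨b1, b1'⟩ := finrank_twist_top (k := k) (Nat.le_add_left 1 d) m
  haveI := Module.Finite.equiv (E1 0).symm
  haveI := Module.Finite.equiv (E2 0).symm
  haveI := Module.Finite.equiv (E1 (d + 1)).symm
  haveI := Module.Finite.equiv (E2 (d + 1)).symm
  have hs : Function.Surjective (mapLin k S.f (d + 1)) := fun x => by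
    obtain ⟨y, hy⟩ := (ker_mapLin_g (A := k) hS (d + 1)).le
      (LinearMap.mem_ker.2 (@Subsingleton.elim _ (v3 (d + 1) d.lt_succ_self) (mapLin k S.g (d + 1) x) 0))
    exact ⟨y, hy⟩
  refine ⟨fun p h0 hpd => ?_, ?_, fun hd => ?_⟩
  · rcases lt_or_gt_of_ne hpd with hlt | hgt
    · have hb := (HypCurve.bijective_g k hS p (v1 p h0 (by omega)) (v1 (p + 1) (by omega) (by omega)))
      haveI := v2 p h0 (by omega)
      haveI : Subsingleton (Coh.HH (CohB1.ProjSpace (d + 1) k) S.X₃ p) := hb.2.subsingleton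
      exact (E3 p).symm.injective.subsingleton
    · haveI := v3 p hgt
      exact (E3 p).symm.injective.subsingleton
  · rcases Nat.eq_zero_or_pos d with hd | hd
    · subst hd
      obtain ⟨hfin, hr⟩ := finrank_five (mapLin_f_zero_injective k hS) (ker_mapLin_g (A := k) hS 0) (ker_deltaLin k hS 0)
        (ker_mapLin_f_succ k hS 0) hs
      refine ⟨Module.Finite.equiv (E3 0), ?_⟩
      rw [← (E3 0).finrank_eq, hr, (E1 0).finrank_eq, (E2 0).finrank_eq, (E1 1).finrank_eq, (E2 1).finrank_eq,
        a0', b0', a1', b1', if_pos rfl]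
    · have hsur : Function.Surjective (mapLin k S.g 0) := fun x =>
        exists_of_deltaLin_eq_zero k hS 0 (@Subsingleton.elim _ (v1 1 one_ne_zero (by omega)) _ 0)
      obtain ⟨hfin, hr⟩ := finrank_five (mapLin_f_zero_injective k hS) (ker_mapLin_g (A := k) hS 0)
        (δ := (0 : _ →ₗ[k] PUnit.{1})) (h := LinearMap.id)
        (by rw [LinearMap.ker_zero, LinearMap.range_eq_top.2 hsur])
        (by rw [LinearMap.ker_id, LinearMap.range_zero]) Function.surjective_id
      refine ⟨Module.Finite.equiv (E3 0), ?_⟩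
      rw [← (E3 0).finrank_eq, hr, (E1 0).finrank_eq, (E2 0).finrank_eq, a0', b0', if_neg hd.ne']
      simp
  · haveI := v2 d (by omega) (by omega)
    have hinj : LinearMap.ker (deltaLin k hS d) = LinearMap.range (0 : PUnit.{1} →ₗ[k] _) := by
      rw [ker_deltaLin k hS d, LinearMap.range_zero, LinearMap.range_eq_bot]
      exact LinearMap.ext fun x => by rw [Subsingleton.elim x 0, map_zero, map_zero]
    obtain ⟨hfin, hr⟩ := finrank_five (A := PUnit.{1}) (f := LinearMap.id) (g := (0 : PUnit.{1} →ₗ[k] _))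
      Function.injective_id (by ext x; simp [Subsingleton.elim x 0]) hinj (ker_mapLin_f_succ k hS d) hs
    refine ⟨Module.Finite.equiv (E3 d), ?_⟩
    rw [← (E3 d).finrank_eq, hr, (E1 (d + 1)).finrank_eq, (E2 (d + 1)).finrank_eq, a1', b1']
    simp

theorem hyp_finrank_line {N : ℕ} (hN : N = 0 + 1) {I : (CohB1.ProjSpace N k).IdealSheafData} {c : ℤ}
    (hI : Nonempty (ClSub.idealMod I ≅ Twist.twistProjSpace N k c)) (m : ℤ) :
    (∀ p : ℕ, p ≠ 0 → Subsingleton (Coh.HH (CohB1.ProjSpace N k) (K I m) p)) ∧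
    (Module.Finite k (Coh.HH (CohB1.ProjSpace N k) (K I m) 0) ∧
      Module.finrank k (Coh.HH (CohB1.ProjSpace N k) (K I m) 0) =
        ((m + (N : ℤ)).toNat.choose N - (c + m + (N : ℤ)).toNat.choose N) +
          ((-(c + m) - 1).toNat.choose N - (-m - 1).toNat.choose N)) := by
  subst hN
  obtain ⟨h1, ⟨h2, h2'⟩, -⟩ := hyp_finrank (d := 0) hI m
  rw [if_pos rfl] at h2'
  exact ⟨fun p hp => h1 p hp hp, h2, h2'⟩

end Groth.Agent.CICoh
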