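import Groth.Agent.CICoh.Seq
import Groth.Agent.AmpleDev.Basic
import Groth.Agent.Big.Basic
import Groth.Agent.ExtShX.ClosedHom
import Groth.Agent.FibDimOne.Basic
import Groth.Agent.QuotRep.HighBC
import Groth.Agent.HypCurve.TwistedH1
import Groth.Agent.HypCurve.PlaneCoh
import Groth.Agent.PicClLib.Basic
import Groth.Agent.GGFF.PicInj
import Groth.Agent.S0844

/-!
# Cohomology of complete intersections in projective space
-/

set_option autoImplicit false
set_option linter.style.haveILetI false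
set_option linter.unusedSectionVars false
set_option backward.isDefEq.respectTransparency false
set_option backward.isDefEq.respectTransparency.types false
set_option maxHeartbeats 1000000
set_option synthInstance.maxHeartbeats 400000

universe u

open CategoryTheory CategoryTheory.Limits AlgebraicGeometry TopologicalSpace Opposite
open Groth.Agent.H23.PicMul

noncomputable section

namespace Groth.Agent.CICoh

open Groth.Agent

variable {n : ℕ} {k : Type u} [Field k]

local notation "ℙn" => CohB1.ProjSpace n k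

/-- `O_Z(i)` on projective space. -/
abbrev K (I : (CohB1.ProjSpace n k).IdealSheafData) (i : ℤ) : (CohB1.ProjSpace n k).Modules :=
  CohB1.tensorMod (ClSub.quotMod I) (Twist.twistProjSpace n k i)

theorem cl_twist_add (a b : ℤ) :
    PicF.cl (Twist.twistProjSpace n k a) * PicF.cl (Twist.twistProjSpace n k b) =
      PicF.cl (Twist.twistProjSpace n k (a + b)) := by
  rw [← cl_tensor]
  exact cl_eq_iff.2 (PnCoh.Finite.twist_tensor_iso (fun j : Fin (n + 1) => MvPolynomial.X j)
    (fun j => LefPen.X_mem n k j) (HypCurve.iSup_chart n k) a b)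

/-- The direct image of the inverse image of a twist. -/
theorem nonempty_push_pull {X : Scheme.{u}} (f : X ⟶ ℙn) [IsClosedImmersion f] (i : ℤ) :
    Nonempty ((Scheme.Modules.pushforward f).obj ((Scheme.Modules.pullback f).obj (Twist.twistProjSpace n k i)) ≅
      K f.ker i) := by
  obtain ⟨e⟩ := AmpleDev.push_tensor_iso f (HypCurve.isInvertible_twist (k := k) n i) (Coh.structureModule X)
  obtain ⟨q⟩ := ExtShX.nonempty_push_iso_quotMod f
  obtain ⟨u⟩ : Nonempty (CohB1.tensorMod (Coh.structureModule X) ((Scheme.Modules.pullback f).obj (Twist.twistProjSpace n k i)) ≅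
      (Scheme.Modules.pullback f).obj (Twist.twistProjSpace n k i)) :=
    cl_eq_iff.1 (by rw [cl_tensor, ← one_def, one_mul])
  refine cl_eq_iff.1 ?_
  have h1 : PicF.cl ((Coh.push f).obj ((Scheme.Modules.pullback f).obj (Twist.twistProjSpace n k i))) =
      PicF.cl (K f.ker i) := by
    rw [← cl_eq_iff.2 ⟨(Coh.push f).mapIso u⟩, ← cl_eq_iff.2 ⟨e⟩, K, cl_tensor, cl_tensor, cl_eq_iff.2 ⟨q⟩]
  exact h1

/-- The ideal of the section of `V(I)` by a hypersurface. -/
theorem ker_comap_comp (I J : (CohB1.ProjSpace n k).IdealSheafData) :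
    ((J.comap I.subschemeι).subschemeι ≫ I.subschemeι).ker = I ⊔ J := by
  have hk : (Scheme.IdealSheafData.inclusion (le_sup_left : I ≤ I ⊔ J)).ker = J.comap I.subschemeι := by
    rw [FComplLib.ker_inclusion, (Scheme.IdealSheafData.map_gc I.subschemeι).l_sup]
    have h : I.comap I.subschemeι = ⊥ := by
      conv_lhs => arg 1; rw [← I.ker_subschemeι]
      exact FComplLib.ker_self_comap _
    rw [h, bot_sup_eq]
  rw [Scheme.Hom.ker_comp, Scheme.IdealSheafData.ker_subschemeι, ← hk, ← Scheme.Hom.ker_comp,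
    Scheme.IdealSheafData.inclusion_subschemeι, Scheme.IdealSheafData.ker_subschemeι]

theorem ciIdeal_succ {r : ℕ} {a : Fin (r + 1) → ℕ} (G : ∀ j, LefPen.Form n k (a j)) :
    LefPen.ciIdeal G = LefPen.ciIdeal (fun j : Fin r => G j.castSucc) ⊔ LefPen.hypIdeal (G (Fin.last r)) := by
  refine le_antisymm (iSup_le fun j => ?_)
    (sup_le (iSup_le fun j => le_iSup (fun l => LefPen.hypIdeal (G l)) j.castSucc)
      (le_iSup (fun l => LefPen.hypIdeal (G l)) (Fin.last r)))
  refine Fin.lastCases ?_ (fun j => ?_) j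
  · exact le_sup_right
  · exact le_sup_of_le_left (le_iSup (fun l : Fin r => LefPen.hypIdeal (G l.castSucc)) j)

/-- The sequence of a hypersurface section, twisted. -/
theorem exists_seq (I : (CohB1.ProjSpace n k).IdealSheafData) {a : ℕ} (G : LefPen.Form n k a)
    (hreg : ∀ (i : Fin (n + 1)) (z : Γ(CohB1.ProjSpace n k, LefPen.chart n k i)),
      z * LefPen.dehom G i ∈ I.ideal (HypCurve.achart n k i) → z ∈ I.ideal (HypCurve.achart n k i))
    (i : ℤ) :
    ∃ S : ShortComplex (CohB1.ProjSpace n k).Modules, S.ShortExact ∧ Nonempty (S.X₁ ≅ K I (i - a)) ∧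
      Nonempty (S.X₂ ≅ K I i) ∧ Nonempty (S.X₃ ≅ K (I ⊔ LefPen.hypIdeal G) i) := by
  obtain ⟨h, hS, -⟩ := exists_shortExact_mulSub I G hreg
  let J := (LefPen.hypIdeal G).comap I.subschemeι
  have hP := hS.map_of_exact (Scheme.Modules.pushforward I.subschemeι)
  have hT := Big.shortExact_tw hP (HypCurve.isInvertible_twist (k := k) n i)
  refine ⟨_, hT, ?_, ⟨Iso.refl _⟩, ?_⟩
  · obtain ⟨e⟩ := nonempty_push_pull I.subschemeι (-(a : ℤ))
    rw [Scheme.IdealSheafData.ker_subschemeι] at e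
    refine ⟨(AmpleVan.tw (Twist.twistProjSpace n k i)).mapIso e ≪≫ (cl_eq_iff.1 ?_).some⟩
    show PicF.cl (CohB1.tensorMod (K I (-(a : ℤ))) (Twist.twistProjSpace n k i)) = PicF.cl (K I (i - a))
    rw [cl_tensor, cl_tensor, cl_tensor, mul_assoc, cl_twist_add, show -(a : ℤ) + i = i - a by ring]
  · obtain ⟨e⟩ := ExtShX.nonempty_push_iso_quotMod (J.subschemeι ≫ I.subschemeι)
    rw [ker_comap_comp] at e
    let e' : (Scheme.Modules.pushforward I.subschemeι).obj (ClSub.quotMod J) ≅ ClSub.quotMod (I ⊔ LefPen.hypIdeal G) :=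
      (Scheme.Modules.pushforwardComp J.subschemeι I.subschemeι).app (Coh.structureModule J.subscheme) ≪≫ e
    refine ⟨?_⟩
    change (AmpleVan.tw (Twist.twistProjSpace n k i)).obj
      ((Scheme.Modules.pushforward I.subschemeι).obj ((Scheme.Modules.pushforward J.subschemeι).obj
        (Coh.structureModule J.subscheme))) ≅ (AmpleVan.tw (Twist.twistProjSpace n k i)).obj (ClSub.quotMod (I ⊔ LefPen.hypIdeal G))
    refine (AmpleVan.tw (Twist.twistProjSpace n k i)).mapIso ?_
    exact e'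

theorem nonempty_K_bot (i : ℤ) : Nonempty (K (⊥ : (CohB1.ProjSpace n k).IdealSheafData) i ≅ Twist.twistProjSpace n k i) := by
  obtain ⟨q⟩ := ExtShX.nonempty_push_iso_quotMod (𝟙 (CohB1.ProjSpace n k))
  rw [Scheme.Hom.ker_eq_bot_of_isIso] at q
  have h1 : PicF.cl ((Coh.push (𝟙 (CohB1.ProjSpace n k))).obj (Coh.structureModule (CohB1.ProjSpace n k))) = 1 :=
    cl_eq_iff.2 ⟨(Scheme.Modules.pushforwardId _).app (Coh.structureModule (CohB1.ProjSpace n k))⟩
  refine cl_eq_iff.1 ?_
  rw [K, cl_tensor, ← cl_eq_iff.2 ⟨q⟩, h1, one_mul]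

theorem ciIdeal_zero {a : Fin 0 → ℕ} (G : ∀ j, LefPen.Form n k (a j)) : LefPen.ciIdeal G = ⊥ := iSup_of_empty _

theorem regSeq_castSucc {r : ℕ} {a : Fin (r + 1) → ℕ} (G : ∀ j, LefPen.Form n k (a j))
    (hG : WCI.RegSeq fun j => (G j).1) : WCI.RegSeq fun j : Fin r => (G j.castSucc).1 := by
  have e : ∀ l : Fin r, (fun j : Fin r => (G j.castSucc).1) '' Set.Iio l = (fun j => (G j).1) '' Set.Iio l.castSucc := by
    intro l
    ext x
    constructor
    · rintro ⟨j, hj, rfl⟩; exact ⟨j.castSucc, Fin.castSucc_lt_castSucc_iff.2 hj, rfl⟩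
    · rintro ⟨j, hj, rfl⟩
      have hjr : (j : ℕ) < r := lt_trans (Fin.lt_def.1 hj) l.isLt
      exact ⟨j.castLT hjr, Fin.lt_def.2 (Fin.lt_def.1 hj), congrArg (fun t => (G t).1) (Fin.castSucc_castLT j hjr)⟩
  intro l x hx
  rw [e] at hx ⊢
  exact hG l.castSucc x hx

/-- Middle cohomology of a complete intersection vanishes and sections of twists extend. -/
theorem vanish_surj : ∀ (r : ℕ) (a : Fin r → ℕ) (G : ∀ j, LefPen.Form n k (a j)),
    WCI.RegSeq (fun j => (G j).1) →
      (∀ (i : ℤ) (p : ℕ), 0 < p → p + r < n → Subsingleton (Coh.HH ℙn (K (LefPen.ciIdeal G) i) p)) ∧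
      (∀ i : ℤ, r < n → ∃ u : Twist.twistProjSpace n k i ⟶ K (LefPen.ciIdeal G) i,
        Epi u ∧ Function.Surjective (u.app ⊤))
  | 0, a, G, _ => by
    rw [ciIdeal_zero]
    refine ⟨fun i p hp hpn => ?_, fun i _ => ?_⟩
    · obtain ⟨e⟩ := nonempty_K_bot (n := n) (k := k) i
      haveI : Subsingleton (Coh.HH ℙn (Twist.twistProjSpace n k i) p) :=
        S0844.result k n i p (fun h => hp.ne' h.1) fun h => by have := h.1; omega
      exact QCoh.subsingleton_HH_of_iso e.symm p inferInstance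
    · obtain ⟨e⟩ := nonempty_K_bot (n := n) (k := k) i
      exact ⟨e.inv, inferInstance, fun y => ⟨e.hom.app ⊤ y, congr(($(e.hom_inv_id)).app ⊤ y)⟩⟩
  | r + 1, a, G, hG => by
    obtain ⟨hvan, hsurj⟩ := vanish_surj r _ _ (regSeq_castSucc G hG)
    rw [ciIdeal_succ]
    have hseq := fun i => exists_seq _ (G (Fin.last r)) (reg_of_regSeq G hG) i
    refine ⟨fun i p hp hpn => ?_, fun i hrn => ?_⟩
    · obtain ⟨S, hS, ⟨e1⟩, ⟨e2⟩, ⟨e3⟩⟩ := hseq i
      haveI : Subsingleton (Coh.HH ℙn S.X₂ p) :=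
        QCoh.subsingleton_HH_of_iso e2.symm p (hvan i p hp (by omega))
      have h1 : Subsingleton (Coh.HH ℙn S.X₁ (p + 1)) :=
        QCoh.subsingleton_HH_of_iso e1.symm (p + 1) (hvan _ (p + 1) (by omega) (by omega))
      haveI : Subsingleton (Coh.HH ℙn S.X₃ p) := (FibDimOne.surjective_of_succ k hS p h1).subsingleton
      exact QCoh.subsingleton_HH_of_iso e3 p inferInstance
    · obtain ⟨u, hu, hus⟩ := hsurj i (by omega)
      obtain ⟨S, hS, ⟨e1⟩, ⟨e2⟩, ⟨e3⟩⟩ := hseq i
      haveI := hu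
      haveI := hS.epi_g
      have h1 : Subsingleton (Coh.HH ℙn S.X₁ 1) := QCoh.subsingleton_HH_of_iso e1.symm 1 (hvan _ 1 one_pos (by omega))
      refine ⟨u ≫ e2.inv ≫ S.g ≫ e3.hom, inferInstance, fun y => ?_⟩
      obtain ⟨z, hz⟩ := QuotRep.app_top_surjective (A := k) hS h1 (e3.inv.app ⊤ y)
      obtain ⟨w, hw⟩ := hus (e2.hom.app ⊤ z)
      refine ⟨w, ?_⟩
      show e3.hom.app ⊤ (S.g.app ⊤ (e2.inv.app ⊤ (u.app ⊤ w))) = y
      rw [hw, show e2.inv.app ⊤ (e2.hom.app ⊤ z) = z from congr(($(e2.hom_inv_id)).app ⊤ z), hz]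
      exact congr(($(e3.inv_hom_id)).app ⊤ y)

theorem faithful_pushforward_closed {S T : Scheme.{u}} (f : S ⟶ T) [IsClosedImmersion f] :
    (Scheme.Modules.pushforward f).Faithful :=
  ⟨fun {M N} a b h => Scheme.Modules.hom_ext _ _ fun V => by
    obtain ⟨O, hO, hOV⟩ := (IsClosedImmersion.base_closed (f := f)).isInducing.isOpen_iff.1 V.2
    obtain rfl : (TopologicalSpace.Opens.map f.base).obj ⟨O, hO⟩ = V := TopologicalSpace.Opens.ext hOV
    exact congrArg (fun t => Scheme.Modules.Hom.app t ⟨O, hO⟩) h⟩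

/-- An epimorphism onto a direct image, surjective on global sections, is the unit up to an automorphism. -/
theorem adjunct_isIso_and_surjective {X : Scheme.{u}} {T : Scheme.{u}} (f : X ⟶ T) [IsClosedImmersion f]
    {L : T.Modules} {M : X.Modules} (hL : PicF.IsInvertible L) (hM : PicF.IsInvertible M)
    (u : L ⟶ (Scheme.Modules.pushforward f).obj M) [Epi u] :
    ∃ v : (Scheme.Modules.pullback f).obj L ≅ M,
      u = (Scheme.Modules.pullbackPushforwardAdjunction f).unit.app L ≫ (Scheme.Modules.pushforward f).map v.hom := by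
  let adj := Scheme.Modules.pullbackPushforwardAdjunction f
  let v := (adj.homEquiv L M).symm u
  have h : adj.unit.app L ≫ (Scheme.Modules.pushforward f).map v = u :=
    (adj.homEquiv_unit (f := v)).symm.trans (Equiv.apply_symm_apply _ _)
  haveI := faithful_pushforward_closed f
  haveI : Epi (adj.unit.app L ≫ (Scheme.Modules.pushforward f).map v) := h ▸ inferInstance
  haveI : Epi ((Scheme.Modules.pushforward f).map v) := epi_of_epi (adj.unit.app L) _
  haveI : Epi v := (Scheme.Modules.pushforward f).epi_of_epi_map inferInstance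
  haveI : IsIso v := GGFF.isIso_of_epi_invertible (PicClLib.isInvertible_pullback f hL) hM v
  exact ⟨asIso v, h.symm⟩

theorem app_top_surjective_of_fac {T : Scheme.{u}} {L P Q Q' : T.Modules} (u : L ⟶ P) (e : Q ≅ P) (η : L ⟶ Q')
    (m : Q' ⟶ Q) [IsIso m] (h : u ≫ e.inv = η ≫ m) (hus : Function.Surjective (u.app ⊤)) :
    Function.Surjective (η.app ⊤) := by
  intro y
  obtain ⟨w, hw⟩ := hus (e.hom.app ⊤ (m.app ⊤ y))
  refine ⟨w, (ConcreteCategory.bijective_of_isIso (m.app ⊤)).1 ?_⟩
  refine (congr(($h).app ⊤ w)).symm.trans ?_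
  show e.inv.app ⊤ (u.app ⊤ w) = m.app ⊤ y
  rw [hw]
  exact congr(($(e.hom_inv_id)).app ⊤ (m.app ⊤ y))

theorem unit_top_surjective_aux {X T : Scheme.{u}} (f : X ⟶ T) [IsClosedImmersion f] {L P : T.Modules}
    (hL : PicF.IsInvertible L) (u : L ⟶ P) [Epi u] (hus : Function.Surjective (u.app ⊤))
    (e : (Scheme.Modules.pushforward f).obj ((Scheme.Modules.pullback f).obj L) ≅ P) :
    Function.Surjective (((Scheme.Modules.pullbackPushforwardAdjunction f).unit.app L).app ⊤) := by
  obtain ⟨v, hv⟩ := adjunct_isIso_and_surjective f hL (PicClLib.isInvertible_pullback _ hL) (u ≫ e.inv)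
  exact app_top_surjective_of_fac u e _ _ hv hus

variable {r : ℕ} {a : Fin r → ℕ} (G : ∀ j, LefPen.Form n k (a j))

theorem unit_top_surjective (hG : WCI.RegSeq fun j => (G j).1) (hrn : r < n) (i : ℤ) :
    Function.Surjective (((Scheme.Modules.pullbackPushforwardAdjunction (LefPen.ciIdeal G).subschemeι).unit.app
      (Twist.twistProjSpace n k i)).app ⊤) := by
  obtain ⟨u, hu, hus⟩ := (vanish_surj r a G hG).2 i hrn
  obtain ⟨e⟩ := nonempty_push_pull (LefPen.ciIdeal G).subschemeι i
  rw [Scheme.IdealSheafData.ker_subschemeι] at e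
  haveI := hu
  exact unit_top_surjective_aux _ (HypCurve.isInvertible_twist (k := k) n i) u hus e

end Groth.Agent.CICoh
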